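import Groth.Prelude.Def_AlgGrp
import Groth.Agent.AlgGrpLib.SubgroupCalc
import Groth.Agent.SGA3cLib.MonoClosed
import Groth.Agent.SGA3xLib.SepFibre
import Groth.Agent.RatCurve29.Points
import Groth.Agent.CubeLib.GlobalSec
import Groth.Agent.SGA3xLib.AffineImage26
import Groth.Agent.S5417
import Mathlib.CategoryTheory.Monoidal.Cartesian.CommGrp_
import Mathlib.CategoryTheory.Abelian.Basic
import Mathlib.CategoryTheory.Limits.Constructions.FiniteProductsOfBinaryProducts

/-!
# Abelian categories of commutative algebraic groups over a field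

A class of commutative algebraic groups stable under products and closed subgroups is an abelian
category as soon as it has quotients by closed subgroups.
-/

set_option autoImplicit false
set_option linter.style.haveILetI false
set_option maxHeartbeats 1000000
set_option backward.isDefEq.respectTransparency.types false

universe u

open CategoryTheory CategoryTheory.Limits MonoidalCategory CartesianMonoidalCategory MonObj GrpObj AlgebraicGeometry

noncomputable section

namespace Groth.Agent.AlgGrpAbel26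

variable (k : Type u) [Field k]

local notation "Grps" => CommGrp (Over (Spec (CommRingCat.of k)))

/-- A class of algebraic groups over a field with the closure properties giving an abelian category. -/
structure GoodClass where
  /-- the class of underlying schemes -/
  P : ObjectProperty (Over (Spec (CommRingCat.of k)))
  lft : ∀ {X}, P X → LocallyOfFiniteType X.hom
  qc : ∀ {X}, P X → QuasiCompact X.hom
  unit : P (𝟙_ (Over (Spec (CommRingCat.of k))))
  prod : ∀ {X Y}, P X → P Y → P (X ⊗ Y)
  closed : ∀ {X Z : Over (Spec (CommRingCat.of k))} (i : Z ⟶ X), IsClosedImmersion i.left → P X → P Z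
  quot : ∀ (G N : Over (Spec (CommRingCat.of k))) [GrpObj G] [IsCommMonObj G] [GrpObj N] (i : N ⟶ G) [IsMonHom i]
    [IsClosedImmersion i.left], P G → AlgGrp.IsNormalHom i →
      ∃ (Q : Over (Spec (CommRingCat.of k))) (_ : GrpObj Q) (q : G ⟶ Q), IsMonHom q ∧ P Q ∧
        Flat q.left ∧ Surjective q.left ∧ AlgGrp.IsKernel i q

variable {k}
variable (D : GoodClass k)

/-- The category of commutative groups in the class. -/
abbrev Cat := ObjectProperty.FullSubcategory (fun G : CommGrp (Over (Spec (CommRingCat.of k))) => D.P G.X)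

variable {D}

/-- The underlying morphism of schemes. -/
abbrev toH {A B : Cat D} (f : A ⟶ B) : A.obj.X ⟶ B.obj.X := f.hom.hom.hom.hom

/-- A morphism from a homomorphism. -/
abbrev ofH {A B : Cat D} (u : A.obj.X ⟶ B.obj.X) [IsMonHom u] : A ⟶ B :=
  ObjectProperty.homMk (InducedCategory.homMk (Grp.homMk' (Mon.Hom.mk' u)))

theorem toH_ofH {A B : Cat D} (u : A.obj.X ⟶ B.obj.X) [IsMonHom u] : toH (ofH u : A ⟶ B) = u := rfl

theorem cext {A B : Cat D} {f g : A ⟶ B} (h : toH f = toH g) : f = g :=
  ObjectProperty.hom_ext _ (CommGrp.hom_ext _ _ h)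

instance {A B : Cat D} (f : A ⟶ B) : IsMonHom (toH f) := inferInstanceAs (IsMonHom f.hom.hom.hom.hom)

/-- Morphisms are morphisms of group objects. -/
def homEq (A B : Cat D) : (A ⟶ B) ≃ Additive (A.obj.toGrp ⟶ B.obj.toGrp) :=
  (InducedCategory.homEquiv.trans InducedCategory.homEquiv).trans Additive.ofMul

instance (A B : Cat D) : AddCommGroup (A ⟶ B) :=
  letI : CommGroup (A.obj.toGrp ⟶ B.obj.toGrp) := Hom.commGroup
  (homEq A B).addCommGroup

theorem toH_add {A B : Cat D} (f g : A ⟶ B) : toH (f + g) = toH f * toH g := rfl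

theorem toH_zero {A B : Cat D} : toH (0 : A ⟶ B) = 1 := rfl

instance : Preadditive (Cat D) where
  homGroup A B := inferInstance
  add_comp A B C f g h := cext (by
    show toH (f + g) ≫ toH h = _
    rw [toH_add, MonObj.mul_comp]
    rfl)
  comp_add A B C f g h := cext (by
    show toH f ≫ toH (g + h) = _
    rw [toH_add, MonObj.comp_mul]
    rfl)

/-- An object of the class. -/
abbrev mkObj (X : Over (Spec (CommRingCat.of k))) [GrpObj X] [IsCommMonObj X] (h : D.P X) : Cat D := ⟨⟨X⟩, h⟩

instance : HasTerminal (Cat D) :=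
  (IsTerminal.ofUniqueHom (Y := mkObj (𝟙_ (Over (Spec (CommRingCat.of k)))) D.unit)
    (fun A => 0) (fun A f => cext (toUnit_unique _ _))).hasTerminal

instance : HasBinaryProducts (Cat D) :=
  haveI : ∀ (A B : Cat D), HasBinaryProduct A B := fun A B => HasLimit.mk
    { cone := BinaryFan.mk (P := mkObj (A.obj.X ⊗ B.obj.X) (D.prod A.property B.property))
        (ofH (fst A.obj.X B.obj.X)) (ofH (snd A.obj.X B.obj.X))
      isLimit := BinaryFan.isLimitMk (fun s => ofH (lift (toH s.fst) (toH s.snd)))
        (fun s => cext (lift_fst _ _)) (fun s => cext (lift_snd _ _))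
        (fun s m h1 h2 => cext (CartesianMonoidalCategory.hom_ext _ _
          ((congrArg toH h1).trans (lift_fst _ _).symm) ((congrArg toH h2).trans (lift_snd _ _).symm))) }
  hasBinaryProducts_of_hasLimit_pair (Cat D)

instance : HasFiniteProducts (Cat D) := hasFiniteProducts_of_has_binary_and_terminal

section Points

open AlgGrpLib

variable {S : Scheme.{u}} {G H U : Over S}

/-- Descent of a morphism along a covering. -/
theorem exists_desc (q : G ⟶ H) [Surjective q.left] [Flat q.left] [QuasiCompact q.left] (g : G ⟶ U)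
    (h : ∀ (W : Over S) (a b : W ⟶ G), a ≫ q = b ≫ q → a ≫ g = b ≫ g) : ∃ r : H ⟶ U, q ≫ r = g := by
  have hd : ∀ {W : Scheme.{u}} (g₁ g₂ : W ⟶ G.left), g₁ ≫ q.left = g₂ ≫ q.left →
      g₁ ≫ g.left = g₂ ≫ g.left := fun {W} g₁ g₂ e => by
    let W' : Over S := Over.mk (g₁ ≫ G.hom)
    let a : W' ⟶ G := Over.homMk g₁
    let b : W' ⟶ G := Over.homMk g₂ (by
      change g₂ ≫ G.hom = g₁ ≫ G.hom
      rw [← Over.w q, ← Category.assoc, ← e, Category.assoc])
    exact congrArg CommaMorphism.left (h W' a b (Over.OverMorphism.ext e))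
  refine ⟨Over.homMk (EffectiveEpi.desc q.left g.left hd) ?_, Over.OverMorphism.ext (EffectiveEpi.fac q.left g.left hd)⟩
  rw [← cancel_epi q.left, reassoc_of% (EffectiveEpi.fac q.left g.left hd), Over.w g, Over.w q]

theorem epi_of_cover (q : G ⟶ H) [Surjective q.left] [Flat q.left] [QuasiCompact q.left] : Epi q :=
  Over.epi_of_epi_left _

theorem epi_tensor {G' H' : Over S} (q : G ⟶ H) (q' : G' ⟶ H') [Surjective q.left] [Flat q.left] [QuasiCompact q.left]
    [Surjective q'.left] [Flat q'.left] [QuasiCompact q'.left] : Epi (q ⊗ₘ q') := by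
  haveI : Surjective (q ⊗ₘ q').left :=
    MorphismProperty.pullbackMap (P := @Surjective) ‹Surjective q.left› ‹Surjective q'.left› (Over.w q).symm (Over.w q').symm
  haveI : Flat (q ⊗ₘ q').left :=
    MorphismProperty.pullbackMap (P := @Flat) ‹Flat q.left› ‹Flat q'.left› (Over.w q).symm (Over.w q').symm
  haveI : QuasiCompact (q ⊗ₘ q').left :=
    MorphismProperty.pullbackMap (P := @QuasiCompact) ‹QuasiCompact q.left› ‹QuasiCompact q'.left› (Over.w q).symm (Over.w q').symm
  exact epi_of_cover _

/-- A homomorphism killing the kernel of a covering homomorphism descends uniquely to a homomorphism. -/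
theorem existsUnique_hom_desc [GrpObj G] [GrpObj H] [GrpObj U] {K : Over S} (i : K ⟶ G) (q : G ⟶ H) [IsMonHom q]
    [Surjective q.left] [Flat q.left] [QuasiCompact q.left] (hK : AlgGrp.IsKernel i q)
    (g : G ⟶ U) [IsMonHom g] (hg : i ≫ g = 1) : ∃ r : H ⟶ U, IsMonHom r ∧ q ≫ r = g := by
  obtain ⟨r, hr⟩ := exists_desc q g (fun W a b hab => by
    obtain ⟨n, hn⟩ := exists_lift_kernel hK (g := a * b⁻¹)
      (by rw [MonObj.mul_comp, GrpObj.inv_comp, hab, mul_inv_cancel])
    rw [← mul_inv_eq_one, ← GrpObj.inv_comp, ← MonObj.mul_comp, ← hn, Category.assoc, hg, MonObj.comp_one])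
  haveI := epi_of_cover q
  haveI := epi_tensor q q
  refine ⟨r, ⟨?_, ?_⟩, hr⟩
  · rw [← IsMonHom.one_hom (f := q), Category.assoc, hr, IsMonHom.one_hom]
  · rw [← cancel_epi (q ⊗ₘ q), ← Category.assoc, ← IsMonHom.mul_hom, Category.assoc, hr, IsMonHom.mul_hom,
      ← Category.assoc, MonoidalCategory.tensorHom_comp_tensorHom, hr]

theorem isCommMonObj_of_mono [GrpObj G] [GrpObj H] [IsCommMonObj H] (m : G ⟶ H) [IsMonHom m] [Mono m] :
    IsCommMonObj G where
  mul_comm := by
    rw [← cancel_mono m, Category.assoc, IsMonHom.mul_hom, ← BraidedCategory.braiding_naturality_assoc,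
      IsCommMonObj.mul_comm]

theorem isCommMonObj_of_cover [GrpObj G] [GrpObj H] [IsCommMonObj G] (q : G ⟶ H) [IsMonHom q]
    [Surjective q.left] [Flat q.left] [QuasiCompact q.left] : IsCommMonObj H where
  mul_comm := by
    haveI := epi_tensor q q
    rw [← cancel_epi (q ⊗ₘ q), BraidedCategory.braiding_naturality_assoc, ← IsMonHom.mul_hom, ← Category.assoc,
      IsCommMonObj.mul_comm]

theorem isNormalHom_of_comm [GrpObj G] [GrpObj H] [IsCommMonObj H] (i : G ⟶ H) : AlgGrp.IsNormalHom i :=
  fun T g n => ⟨n, by rw [mul_comm g, mul_inv_cancel_right]⟩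

/-- A monomorphism is injective on the kernel. -/
theorem mono_of_points [GrpObj G] [GrpObj H] (m : G ⟶ H) [IsMonHom m]
    (h : ∀ (W : Over S) (x : W ⟶ G), x ≫ m = 1 → x = 1) : Mono m :=
  ⟨fun a b hab => mul_inv_eq_one.mp (h _ _ (by rw [MonObj.mul_comp, GrpObj.inv_comp, hab, mul_inv_cancel]))⟩

end Points

open AlgGrpLib

theorem exists_kernel {A B : Cat D} (f : A ⟶ B) :
    ∃ (K : Cat D) (κ : K ⟶ A), AlgGrp.IsKernel (toH κ) (toH f) := by
  obtain ⟨K, gK, i, hi, hK⟩ := SGA3xLib.AffineImage26.exists_kernel (toH f)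
  haveI := kernel_mono hK
  haveI := isCommMonObj_of_mono i
  haveI : IsSeparated B.obj.X.hom := SGA3xLib.isSeparated_of_grpObj _
  haveI : IsClosedImmersion i.left := by
    have hsq : IsPullback i.left (toUnit K).left (toH f).left (η[B.obj.X]).left := hK.map (Over.forget _)
    exact MorphismProperty.of_isPullback hsq.flip
      (SGA3xLib.isClosedImmersion_of_section B.obj.X.hom η[B.obj.X].left (Over.w η[B.obj.X]))
  exact ⟨mkObj K (D.closed i inferInstance A.property), ofH i, hK⟩

/-- The kernel fork. -/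
def isLimitOfKernel {A B K : Cat D} (f : A ⟶ B) (κ : K ⟶ A) (hK : AlgGrp.IsKernel (toH κ) (toH f)) (w : κ ≫ f = 0) :
    IsLimit (KernelFork.ofι κ w) :=
  haveI : Mono (toH κ) := kernel_mono hK
  haveI : Mono κ := ⟨fun a b h => cext ((cancel_mono (toH κ)).1 (congrArg toH h))⟩
  have hl : ∀ (W : Cat D) (g : W ⟶ A), g ≫ f = 0 → ∃ z : W ⟶ K, z ≫ κ = g := fun W g hg => by
    obtain ⟨n, hn⟩ := exists_lift_kernel hK (g := toH g) (congrArg toH hg)
    haveI : IsMonHom n := ⟨by rw [← cancel_mono (toH κ), Category.assoc, hn, IsMonHom.one_hom, IsMonHom.one_hom],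
      by rw [← cancel_mono (toH κ), Category.assoc, hn, IsMonHom.mul_hom, Category.assoc, IsMonHom.mul_hom,
        ← Category.assoc, MonoidalCategory.tensorHom_comp_tensorHom, hn]⟩
    exact ⟨ofH n, cext hn⟩
  KernelFork.IsLimit.ofι' κ w (fun g hg => ⟨(hl _ g hg).choose, (hl _ g hg).choose_spec⟩)

theorem kernel_w {A B K : Cat D} (f : A ⟶ B) (κ : K ⟶ A) (hK : AlgGrp.IsKernel (toH κ) (toH f)) : κ ≫ f = 0 :=
  cext (kernel_comp hK)

/-- A covering homomorphism is the cokernel of its kernel. -/
def isColimitOfCover {A B K : Cat D} (f : A ⟶ B) [Surjective (toH f).left] [Flat (toH f).left] (κ : K ⟶ A)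
    (hK : AlgGrp.IsKernel (toH κ) (toH f)) (w : κ ≫ f = 0) : IsColimit (CokernelCofork.ofπ f w) :=
  haveI : QuasiCompact (toH f).left :=
    haveI := D.qc A.property; haveI := D.lft B.property; quasiCompact_left (toH f)
  haveI : Epi f := ⟨fun a b h => cext (haveI := epi_of_cover (toH f); (cancel_epi (toH f)).1 (congrArg toH h))⟩
  have hl : ∀ (W : Cat D) (g : A ⟶ W), κ ≫ g = 0 → ∃ z : B ⟶ W, f ≫ z = g := fun W g hg => by
    obtain ⟨r, hr, he⟩ := existsUnique_hom_desc (toH κ) (toH f) hK (toH g) (congrArg toH hg)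
    exact ⟨ofH r, cext he⟩
  CokernelCofork.IsColimit.ofπ' f w (fun g hg => ⟨(hl _ g hg).choose, (hl _ g hg).choose_spec⟩)

instance : HasKernels (Cat D) where
  has_limit {A B} f := by
    obtain ⟨K, κ, hK⟩ := exists_kernel f
    exact HasLimit.mk ⟨_, isLimitOfKernel f κ hK (kernel_w f κ hK)⟩

/-- The image factorisation and the quotient by the image. -/
theorem exists_image_quotient {A B : Cat D} (f : A ⟶ B) :
    ∃ (I T : Cat D) (q : A ⟶ I) (m : I ⟶ B) (π : B ⟶ T), q ≫ m = f ∧ Surjective (toH q).left ∧ Flat (toH q).left ∧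
      Mono (toH m) ∧ Surjective (toH π).left ∧ Flat (toH π).left ∧ AlgGrp.IsKernel (toH m) (toH π) := by
  haveI := D.lft A.property
  haveI := D.lft B.property
  haveI := D.qc A.property
  haveI := D.qc B.property
  haveI : LocallyOfFinitePresentation A.obj.X.hom := RatCurve29.lfp_of_isLocallyNoetherian A.obj.X.hom
  obtain ⟨K, _, kk, _, hK⟩ := SGA3xLib.AffineImage26.exists_kernel (toH f)
  haveI : Flat K.hom := CubeLib.flat_of_field _
  obtain ⟨Q, gQ, q, hq, ⟨hqs, hqf, -, -⟩, hQ, m, hmh, hm, e⟩ :=
    Agent.S5417.result _ A.obj.X B.obj.X (Or.inl inferInstance) (toH f) K kk hK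
  haveI := hQ
  haveI := hm
  haveI := hmh
  haveI := hqs
  haveI : CompactSpace A.obj.X.left := HasAffineProperty.iff_of_isAffine.mp ‹QuasiCompact A.obj.X.hom›
  haveI : CompactSpace Q.left :=
    ⟨by rw [← q.left.surjective.range_eq]; exact isCompact_range q.left.continuous⟩
  haveI : QuasiCompact Q.hom := HasAffineProperty.iff_of_isAffine.mpr ‹CompactSpace Q.left›
  haveI : LocallyOfFiniteType Q.hom := inferInstance
  haveI : QuasiCompact m.left := quasiCompact_left m
  haveI : IsClosedImmersion m.left := SGA3cLib.isClosedImmersion_of_mono m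
  haveI := isCommMonObj_of_mono m
  obtain ⟨T, gT, π, hπ, hPT, hπf, hπs, hker⟩ := D.quot B.obj.X Q m B.property (isNormalHom_of_comm m)
  haveI := hπ
  haveI := hπs
  haveI := hπf
  haveI := D.lft hPT
  haveI : QuasiCompact π.left := quasiCompact_left π
  haveI := isCommMonObj_of_cover π
  exact ⟨mkObj Q (D.closed m inferInstance B.property), mkObj T hPT, ofH q, ofH m, ofH π, cext e, hqs, hqf, hm,
    hπs, hπf, hker⟩

instance : HasCokernels (Cat D) where
  has_colimit {A B} f := by
    obtain ⟨I, T, q, m, π, e, hqs, hqf, hm, hπs, hπf, hker⟩ := exists_image_quotient f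
    haveI := hπs
    haveI := hπf
    haveI := hqs
    haveI := hqf
    haveI : QuasiCompact (toH q).left :=
      haveI := D.qc A.property; haveI := D.lft I.property; quasiCompact_left (toH q)
    haveI : Epi q := ⟨fun a b h => cext (haveI := epi_of_cover (toH q); (cancel_epi (toH q)).1 (congrArg toH h))⟩
    have w : m ≫ π = 0 := kernel_w π m hker
    have w' : f ≫ π = 0 := by rw [← e, Category.assoc, w, Limits.comp_zero]
    have hc := isColimitOfCover π m hker w
    have hgl : ∀ (W : Cat D) (g : B ⟶ W), f ≫ g = 0 → m ≫ g = 0 := fun W g hg => by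
      rw [← cancel_epi q, reassoc_of% e, hg, Limits.comp_zero]
    haveI : Epi π := Cofork.IsColimit.epi hc
    exact HasColimit.mk ⟨_, CokernelCofork.IsColimit.ofπ' π w'
      (fun g hg => ⟨hc.desc (CokernelCofork.ofπ g (hgl _ g hg)), hc.fac _ WalkingParallelPair.one⟩)⟩

instance : IsNormalMonoCategory (Cat D) where
  normalMonoOfMono {A B} f hf := by
    obtain ⟨K, κ, hK⟩ := exists_kernel f
    have h0 : κ = 0 := by rw [← cancel_mono f, kernel_w f κ hK, Limits.zero_comp]
    haveI : Mono (toH f) := mono_of_points (toH f) (fun W x hx => by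
      obtain ⟨n, hn⟩ := exists_lift_kernel hK hx
      rw [← hn, congrArg toH h0, toH_zero, MonObj.comp_one])
    haveI := D.lft A.property
    haveI := D.lft B.property
    haveI := D.qc A.property
    haveI : QuasiCompact (toH f).left := quasiCompact_left (toH f)
    haveI : IsClosedImmersion (toH f).left := SGA3cLib.isClosedImmersion_of_mono (toH f)
    obtain ⟨T, gT, π, hπ, hPT, hπf, hπs, hker⟩ := D.quot B.obj.X A.obj.X (toH f) B.property (isNormalHom_of_comm _)
    haveI := hπ
    haveI := hπs
    haveI := hπf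
    haveI := D.lft hPT
    haveI := D.qc B.property
    haveI : QuasiCompact π.left := quasiCompact_left π
    haveI := isCommMonObj_of_cover π
    let πc : B ⟶ mkObj T hPT := ofH π
    have hker' : AlgGrp.IsKernel (toH f) (toH πc) := hker
    exact ⟨⟨mkObj T hPT, πc, kernel_w πc f hker', isLimitOfKernel πc f hker' (kernel_w πc f hker')⟩⟩

instance : IsNormalEpiCategory (Cat D) where
  normalEpiOfEpi {A B} f hf := by
    obtain ⟨I, T, q, m, π, e, hqs, hqf, hm, hπs, hπf, hker⟩ := exists_image_quotient f
    have h0 : π = 0 := by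
      rw [← cancel_epi f, ← e, Category.assoc, kernel_w π m hker, Limits.comp_zero, Limits.comp_zero]
    obtain ⟨s, hs⟩ := exists_lift_kernel hker (g := 𝟙 B.obj.X) (by rw [congrArg toH h0, toH_zero, MonObj.comp_one])
    haveI := hm
    haveI : IsIso (toH m) := ⟨s, by rw [← cancel_mono (toH m), Category.assoc, hs, Category.comp_id, Category.id_comp], hs⟩
    haveI : IsIso (toH m).left := inferInstanceAs (IsIso ((Over.forget _).map (toH m)))
    have e' : (toH q).left ≫ (toH m).left = (toH f).left := congrArg (fun g => (toH g).left) e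
    haveI : Surjective (toH f).left := by rw [← e']; haveI := hqs; infer_instance
    haveI : Flat (toH f).left := by rw [← e']; haveI := hqf; infer_instance
    obtain ⟨K, κ, hK⟩ := exists_kernel f
    exact ⟨⟨K, κ, kernel_w f κ hK, isColimitOfCover f κ hK (kernel_w f κ hK)⟩⟩

/-- The abelian category of commutative groups in a good class. -/
@[instance_reducible] def abelian : Abelian (Cat D) where

end Groth.Agent.AlgGrpAbel26
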